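import Cfsg.Agent.H292.RowAll
import Cfsg.Agent.H78.TeFour
import Cfsg.Agent.H283.SporLie_m3
import Cfsg.Agent.H677.OrdSporIso
import Cfsg.Agent.H340.OddLie
import Cfsg.Agent.OddHalf.Known
import Cfsg.Agent.Prune
set_option linter.all false
prune_inst 0x7f00000000000000000000000000000000000000000000000000000000000000000000000000000000000000000000000000000000000000000000000000000000000000000000000000000000000000003fffffffffffffffffffffffffffbeffbdffffffff
open scoped Cfsg.Agent.FastGrp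

/-!
# Components of the fixed points of involutory automorphisms of groups of Lie type in characteristic two (helper318)

* `exc` : exceptional groups; `cls` : classical groups except `PSp_4(q)`: a component is in `Chev(2)`;
* `sp4` : `PSp_4(q)` has no component with elements of order 8;
* `chev_not_spor` : a group in `Chev(2)` is not sporadic;
* `two_comp` : `X` of Lie type in characteristic two, `A` a component of `C_X(x)`, `x` an involutory automorphism, `A`
  with an element of order 8: `A` is in `Chev(2)`.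
-/

set_option autoImplicit false

namespace Cfsg.Agent.H318.TwoComp

open Cfsg Cfsg.Lie Subgroup Cfsg.Agent.OrdDiv Cfsg.Agent.H902 Cfsg.Agent.H902.Names
open Cfsg.Agent.H829.ExcComp (Pair FieldPair TriPair FFourPair ESixPair TwESixPair)

universe u v

/-! ### exceptional groups -/

theorem chev_of_pair {K : Type u} {A : Type v} [Group K] [Group A] (h : Pair K A) : IsChevSimple 2 A := by
  rcases h with h | h | h | h | h
  · obtain ⟨F, F₀, i1, i2, i3, i4, i5, i6, -, h⟩ := h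
    rcases h with ⟨h, -, ⟨b⟩⟩ | ⟨-, -, L, j1, j2, hL, ⟨b⟩⟩ | ⟨-, ⟨b⟩⟩ | ⟨-, ⟨b⟩⟩ | ⟨-, ⟨b⟩⟩ | ⟨-, ⟨b⟩⟩
    · have : IsExceptionalChevChar 2 A := ⟨F₀, i4, i5, i6, Or.inl ⟨h, ⟨b⟩⟩⟩
      unfold IsChevSimple IsLieTypeChar; (solve | simp only [*, true_or, or_true, and_self, true_and, and_true, not_false_eq_true] | tauto)
    · exact Or.inr (Or.inl ⟨rfl, Or.inr (Or.inl ⟨L, j1, j2, hL, ⟨b⟩⟩)⟩)
    · have : IsExceptionalChevChar 2 A := ⟨F₀, i4, i5, i6, Or.inr (Or.inl ⟨b⟩)⟩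
      unfold IsChevSimple IsLieTypeChar; (solve | simp only [*, true_or, or_true, and_self, true_and, and_true, not_false_eq_true] | tauto)
    · have : IsExceptionalChevChar 2 A := ⟨F₀, i4, i5, i6, Or.inr (Or.inr (Or.inl ⟨b⟩))⟩
      unfold IsChevSimple IsLieTypeChar; (solve | simp only [*, true_or, or_true, and_self, true_and, and_true, not_false_eq_true] | tauto)
    · have : IsExceptionalChevChar 2 A := ⟨F₀, i4, i5, i6, Or.inr (Or.inr (Or.inr (Or.inl ⟨b⟩)))⟩
      unfold IsChevSimple IsLieTypeChar; (solve | simp only [*, true_or, or_true, and_self, true_and, and_true, not_false_eq_true] | tauto)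
    · have : IsExceptionalChevChar 2 A := ⟨F₀, i4, i5, i6, Or.inr (Or.inr (Or.inr (Or.inr ⟨b⟩)))⟩
      unfold IsChevSimple IsLieTypeChar; (solve | simp only [*, true_or, or_true, and_self, true_and, and_true, not_false_eq_true] | tauto)
  · obtain ⟨F, F₀, i1, i2, i3, i4, i5, i6, q, q₀, h1, h2, h3, h4, -, ⟨b⟩⟩ := h
    have : IsTwistedE6D4Char 2 A := ⟨F₀, i4, i5, i6, q₀, h1, Or.inr ⟨h4, ⟨b⟩⟩⟩
    unfold IsChevSimple IsLieTypeChar; (solve | simp only [*, true_or, or_true, and_self, true_and, and_true, not_false_eq_true] | tauto)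
  · obtain ⟨F, i1, i2, i3, m, h1, -, h2⟩ := h
    rcases h2 with ⟨h2, ⟨b⟩⟩ | ⟨h2, b⟩
    · have : Iso2F4 A := ⟨F, i1, i2, m, h2, h1, ⟨b⟩⟩
      unfold IsChevSimple IsLieTypeChar; (solve | simp only [*, true_or, or_true, and_self, true_and, and_true, not_false_eq_true] | tauto)
    · exact Or.inr (Or.inl ⟨rfl, Or.inr (Or.inr b)⟩)
  · obtain ⟨F, i1, i2, i3, -, h2⟩ := h
    rcases h2 with ⟨q₀, h2, ⟨b⟩⟩ | ⟨⟨b⟩⟩
    · have hq : IsPrimePow q₀ := by
        obtain ⟨f, hf, rfl⟩ := H292.Rows.q_two h2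
        exact Nat.prime_two.isPrimePow.pow (by omega)
      have : IsTwistedE6D4Char 2 A := ⟨F, i1, i2, i3, q₀, hq, Or.inl ⟨h2, ⟨b⟩⟩⟩
      unfold IsChevSimple IsLieTypeChar; (solve | simp only [*, true_or, or_true, and_self, true_and, and_true, not_false_eq_true] | tauto)
    · have : IsExceptionalChevChar 2 A := ⟨F, i1, i2, i3, Or.inr (Or.inl ⟨b⟩)⟩
      unfold IsChevSimple IsLieTypeChar; (solve | simp only [*, true_or, or_true, and_self, true_and, and_true, not_false_eq_true] | tauto)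
  · obtain ⟨F, F₀, i1, i2, i3, i4, i5, i6, q, h1, h2, -, ⟨b⟩⟩ := h
    have : IsExceptionalChevChar 2 A := ⟨F₀, i4, i5, i6, Or.inr (Or.inl ⟨b⟩)⟩
    unfold IsChevSimple IsLieTypeChar; (solve | simp only [*, true_or, or_true, and_self, true_and, and_true, not_false_eq_true] | tauto)

/-- **Exceptional groups.** -/
theorem exc {K : Type u} [Group K] [Finite K] [IsSimpleGroup K] (hna : ¬ IsMulCommutative K)
    (hK : IsExceptionalChevChar 2 K ∨ IsTwistedE6D4Char 2 K ∨ IsoSuzuki K ∨ Iso2F4 K) {x : MulAut K} (hx : x * x = 1)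
    (hx1 : x ≠ 1) {A : Subgroup ↥(fixedSubgroup x)} (hA : IsComponent A) : IsChevSimple 2 ↥A :=
  chev_of_pair (H78.TeFour.exc_comp hna hK x (by rw [pow_two]; exact hx) hx1 A hA)

/-! ### classical groups -/

/-- names in characteristic 2 -/
def P2 : Grp → Prop
  | .psl _ q => ∃ f, q = 2 ^ f
  | .psu _ q => ∃ f, q = 2 ^ f
  | .psp _ q => ∃ f, q = 2 ^ f
  | .oplus _ q => ∃ f, q = 2 ^ f
  | .ominus _ q => ∃ f, q = 2 ^ f
  | .alt n => n = 6
  | _ => False

theorem sqrt_two {q f : ℕ} (h : q ^ 2 = 2 ^ f) : ∃ j, q = 2 ^ j := by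
  obtain ⟨j, -, hj⟩ := (Nat.dvd_prime_pow Nat.prime_two).1 (h ▸ dvd_pow_self q two_ne_zero : q ∣ 2 ^ f)
  exact ⟨j, hj⟩

theorem pr_p2 {g h : Grp} (hp : H292.Rows.Pr g h) (h2 : P2 g) : P2 h := by
  cases hp with
  | lf n q => obtain ⟨f, hf⟩ := h2; exact sqrt_two hf
  | lu n q hn => obtain ⟨f, hf⟩ := h2; exact sqrt_two hf
  | ls n m q hm h => exact h2
  | lt q => exact h2
  | la n h => exact rfl
  | us n m q hm h => exact h2
  | ut q => exact h2
  | ua n h => exact rfl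
  | sf m q hm => obtain ⟨f, hf⟩ := h2; exact sqrt_two hf
  | ps m q hm => exact h2
  | pp m q hm => obtain ⟨f, hf⟩ := h2; exact sqrt_two hf
  | pm m q hm => obtain ⟨f, hf⟩ := h2; exact sqrt_two hf
  | ms m q hm => exact h2

theorem charP_two {F : Type} [Field F] [Fintype F] {f : ℕ} (h : Fintype.card F = 2 ^ f) : CharP F 2 := by
  have hp := Fact.mk Nat.prime_two
  exact charP_of_card_eq_prime_pow h

/-- **a name with its order** -/
theorem chev_of_name {h : Grp} {A : Type u} [Group A] (h2 : P2 h) (hr : OrdDiv.Real h A)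
    (hn : N2 h (Nat.card A)) : IsChevSimple 2 A := by
  rcases hn with ⟨n, rfl, -, -⟩ | ⟨Y, p, f, hl, hR⟩
  · have h6 : n = 6 := h2
    subst h6
    exact Or.inr (Or.inl ⟨rfl, Or.inl hr⟩)
  · have key : ∀ {q : ℕ}, (∃ j, q = 2 ^ j) → q = p ^ f → p = 2 := by
      rintro q ⟨j, rfl⟩ he
      have h1 : p ∣ 2 ^ j := by
        rw [he]
        exact dvd_pow_self p (by have := hR.hf; omega)
      exact (Nat.prime_dvd_prime_iff_eq hR.hp Nat.prime_two).1 (hR.hp.dvd_of_dvd_pow h1)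
    cases hl with
    | psl n =>
      obtain rfl := key h2 rfl
      obtain ⟨F, i1, i2, hc, e⟩ := hr
      have hF := charP_two hc
      have hok : 2 ≤ n ∧ (n = 2 → 4 ≤ 2 ^ f) := hR.ok
      rw [← hc] at hok
      exact Or.inl (Or.inl ⟨F, i1, i2, hF, n, hok.1, hok.2, e⟩)
    | psp n =>
      obtain rfl := key h2 rfl
      obtain ⟨F, i1, i2, hc, e⟩ := hr
      have hF := charP_two hc
      have hok : 2 ≤ n ∧ (n = 2 → 3 ≤ 2 ^ f) := hR.ok
      rw [← hc] at hok
      exact Or.inl (Or.inr (Or.inl ⟨F, i1, i2, hF, n, hok.1, hok.2, e⟩))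
    | oodd => exact h2.elim
    | psu n =>
      obtain rfl := key h2 rfl
      obtain ⟨F, i1, i2, hc, e⟩ := hr
      have hF := charP_two (f := f * 2) (by rw [hc, pow_mul])
      have hok : 3 ≤ n ∧ (n = 3 → 3 ≤ 2 ^ f) := hR.ok
      exact Or.inl (Or.inr (Or.inr (Or.inl ⟨F, i1, i2, hF, n, 2 ^ f, hc, hok.1, by
        rintro ⟨h3, h4⟩
        have := hok.2 h3
        omega, e⟩)))
    | oplus n =>
      obtain rfl := key h2 rfl
      obtain ⟨F, i1, i2, hc, e⟩ := hr
      have hF := charP_two hc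
      have hok : 4 ≤ n := hR.ok
      exact Or.inl (Or.inr (Or.inr (Or.inr (Or.inr (Or.inl ⟨F, i1, i2, hF, n, hok, e⟩)))))
    | ominus n =>
      obtain rfl := key h2 rfl
      obtain ⟨F, i1, i2, a, b, hc, hab, e⟩ := hr
      have hF := charP_two hc
      have hok : 4 ≤ n := hR.ok
      exact Or.inl (Or.inr (Or.inr (Or.inr (Or.inr (Or.inr (Or.inl ⟨F, i1, i2, hF, n, a, b, hok, hab, e⟩))))))
    | _ => exact h2.elim

theorem of_out {K : Type u} [Group K] {g : Grp} (h : H292.Rows.Out K g) (hg : P2 g) {x : MulAut K} (hx : x * x = 1)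
    (hx1 : x ≠ 1) {A : Subgroup ↥(fixedSubgroup x)} (hA : IsComponent A) : IsChevSimple 2 ↥A := by
  obtain ⟨h', h1, h2, h3⟩ := h x hx hx1 A hA
  exact chev_of_name (pr_p2 h1 hg) h2 h3

/-- **Classical groups**, except `PSp_4(q)`. -/
theorem cls {K : Type u} [Group K] (hK : H340.IsClassicalChar 2 K)
    (h4 : ¬ ∃ (F : Type) (_ : Field F) (_ : Fintype F) (_ : CharP F 2), Nonempty (K ≃* PSp 2 F))
    {x : MulAut K} (hx : x * x = 1) (hx1 : x ≠ 1) {A : Subgroup ↥(fixedSubgroup x)} (hA : IsComponent A) :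
    IsChevSimple 2 ↥A := by
  rcases hK with h | h | h | h | h | h
  · obtain ⟨F, _, _, _, n, h1, h2, ⟨e⟩⟩ := h
    obtain ⟨f, -, hf⟩ := H292.Rows.card_two F
    exact of_out ((H292.Rows.row_psl h1 h2).congr e.symm) ⟨f, hf⟩ hx hx1 hA
  · obtain ⟨F, i1, i2, i3, m, h1, h2, ⟨e⟩⟩ := h
    obtain ⟨f, -, hf⟩ := H292.Rows.card_two F
    have h3 : 3 ≤ m := by
      by_contra hlt
      have hm : m = 2 := by omega
      subst hm
      exact h4 ⟨F, i1, i2, i3, ⟨e⟩⟩
    exact of_out ((H292.Rows.row_psp h3).congr e.symm) ⟨f, hf⟩ hx hx1 hA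
  · obtain ⟨F, _, _, _, n, q, h1, h2, h3, ⟨e⟩⟩ := h
    obtain ⟨f, -, hf⟩ := H292.Rows.q_two h1
    exact of_out ((H292.Rows.row_psu h1 h2 h3).congr e.symm) ⟨f, hf⟩ hx hx1 hA
  · exfalso
    obtain ⟨F, _, _, _, m, h1, h2, ⟨e⟩⟩ := h
    obtain ⟨f, hf, hF⟩ := H292.Rows.card_two F
    rw [hF] at h2
    exact (Nat.not_odd_iff_even.2 ((Nat.even_pow.2 ⟨even_two, by omega⟩))) h2
  · obtain ⟨F, _, _, _, m, h1, ⟨e⟩⟩ := h
    obtain ⟨f, -, hf⟩ := H292.Rows.card_two F
    exact of_out ((H292.Rows.row_plus h1).congr e.symm) ⟨f, hf⟩ hx hx1 hA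
  · obtain ⟨F, _, _, _, m, a, b, h1, h2, ⟨e⟩⟩ := h
    obtain ⟨f, -, hf⟩ := H292.Rows.card_two F
    exact of_out ((H292.Rows.row_minus h1 h2).congr e.symm) ⟨f, hf⟩ hx hx1 hA

/-! ### conclusions -/

/-- **A group in `Chev(2)` is not sporadic.** -/
theorem chev_not_spor {S : Type u} [Group S] (h : IsChevSimple 2 S) : ¬ IsSporadicGroup S := by
  intro hs
  rcases h with h | ⟨-, h⟩ | ⟨h, -⟩
  · exact H283.SporLie.not_lie Nat.prime_two h (Or.inl hs)
  · rcases h with ⟨⟨e⟩⟩ | ⟨F, i1, i2, hF, ⟨e⟩⟩ | h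
    · refine H677.OrdSporIso.alt_spor (Or.inl hs) (n := 6) ?_
      rw [Nat.card_congr e.toEquiv, Nat.card_eq_fintype_card, two_mul_card_alternatingGroup, Fintype.card_perm,
        Fintype.card_fin]
    · have h3 : CharP F 3 := by
        have hp := Fact.mk Nat.prime_three
        exact charP_of_card_eq_prime_pow (f := 2) (by rw [hF]; norm_num)
      refine H283.SporLie.not_lie (p := 3) Nat.prime_three ?_ (Or.inl hs)
      exact Or.inr (Or.inr (Or.inl ⟨F, i1, i2, h3, 3, 3, by rw [hF]; norm_num, le_rfl, by norm_num, ⟨e⟩⟩))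
    · exact H283.SporLie.not_tits_spor h hs
  · exact absurd h (by norm_num)

/-- **Groups of Lie type in characteristic two.** -/
theorem two_comp {X : Type u} [Group X] [Finite X] [IsSimpleGroup X] (hna : ¬ IsMulCommutative X)
    (h : IsLieTypeChar 2 X) {x : MulAut X} (hx : x * x = 1) (hx1 : x ≠ 1) {A : Subgroup ↥(fixedSubgroup x)}
    (hA : IsComponent A) (h8 : H292.Oct.Eight ↥A) : IsChevSimple 2 ↥A := by
  by_cases h4 : ∃ (F : Type) (_ : Field F) (_ : Fintype F) (_ : CharP F 2), Nonempty (X ≃* PSp 2 F)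
  · exfalso
    obtain ⟨F, i1, i2, i3, ⟨e⟩⟩ := h4
    exact H292.Oct.no_sp4 h8 (e.toMonoidHom.comp ((fixedSubgroup x).subtype.comp A.subtype))
      (e.injective.comp ((subtype_injective _).comp (subtype_injective _)))
  · rcases h with h | h | h | h | h | h | h | h | ⟨-, h⟩ | ⟨-, h⟩ | ⟨h, -⟩
    · exact cls (Or.inl h) h4 hx hx1 hA
    · exact cls (Or.inr (Or.inl h)) h4 hx hx1 hA
    · exact cls (Or.inr (Or.inr (Or.inl h))) h4 hx hx1 hA
    · exact cls (Or.inr (Or.inr (Or.inr (Or.inl h)))) h4 hx hx1 hA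
    · exact cls (Or.inr (Or.inr (Or.inr (Or.inr (Or.inl h))))) h4 hx hx1 hA
    · exact cls (Or.inr (Or.inr (Or.inr (Or.inr (Or.inr h))))) h4 hx hx1 hA
    · exact exc hna (Or.inl h) hx hx1 hA
    · exact exc hna (Or.inr (Or.inl h)) hx hx1 hA
    · exact exc hna (Or.inr (Or.inr (Or.inl h))) hx hx1 hA
    · exact exc hna (Or.inr (Or.inr (Or.inr h))) hx hx1 hA
    · exact absurd h (by norm_num)

end Cfsg.Agent.H318.TwoComp
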