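import Cfsg.Agent.H318.RepLarge
import Cfsg.Agent.OddHalf.D9.FFour.Out_m3
import Cfsg.Agent.S0280
import Cfsg.Agent.Prune
set_option linter.all false
prune_inst 0x7f00000000000000000000000000000000000000000000000000000000000000000000000000000000000000000000000000000000000000000000000000000000000000000000000000000000000000003fffffffffffffffffffffffffffbeffbdffffffff
open scoped Cfsg.Agent.FastGrp

/-!
# Representations of the central extensions of `²E₆(2)` in odd characteristic have degree at least 1024 (helper318)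
-/

set_option autoImplicit false
set_option linter.unusedSectionVars false

namespace Cfsg.Agent.H318.RepTwE

open Cfsg Cfsg.Lie Subgroup
open Cfsg.Agent.TwoESix Cfsg.Agent.TwoESix.SheetD Cfsg.Agent.TwoESix.FlagH Cfsg.Agent.TwoESix.LeviA
open Cfsg.Agent.ChevalleyStructure.TwE6Basic Cfsg.Agent.TwoESix.LongCard Cfsg.Agent.TwoESix.LongPairs

universe u v w

variable {K : Type u} [Field K] [Fintype K] {φ : K →+* K} (F : Four K φ)

theorem card_psu_six (hK : Fintype.card K = 2 ^ 2) : Nat.card (PSU 6 K 2) = 9196830720 := by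
  have h := Cfsg.Agent.S0280.result hK 6 (by norm_num)
  have h1 : Nat.gcd 6 (2 + 1) = 3 := by decide
  have h2 : (∏ i ∈ Finset.range 6, (if Even i then 2 ^ (i + 1) + 1 else 2 ^ (i + 1) - 1)) = 2525985 := by decide
  rw [h1, h2] at h
  omega

include F

theorem dvd_card_RE : 2 ^ 21 ∣ Nat.card ↥(RE K) := by
  have := finite_E (K := K)
  obtain ⟨ψ, hψ, hker, -⟩ := exists_chart F
  have h1 : Nat.card ↥(centralizer ({r0 F} : Set ↥(twistedE6 K 2))) = Nat.card ↥ψ.ker * 9196830720 := by
    rw [← card_psu_six (hF4 F), mul_comm, ← Nat.card_congr (QuotientGroup.quotientKerEquivOfSurjective ψ hψ).toEquiv]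
    exact card_eq_card_quotient_mul_card_subgroup ψ.ker
  have h2 : Nat.card ↥ψ.ker = Nat.card ↥(RE K) := by
    refine Nat.card_congr ⟨fun x => ⟨(x.1 : ↥(twistedE6 K 2)), (hker x.1).1 x.2⟩,
      fun x => ⟨⟨x.1, S_cent F _ (R_le F x.2) |> fun h => mem_centralizer_singleton_iff.2 h⟩, (hker _).2 x.2⟩,
      fun x => rfl, fun x => rfl⟩
  have h3 : 2 ^ 36 ∣ Nat.card ↥(centralizer ({r0 F} : Set ↥(twistedE6 K 2))) := by
    rw [← card_SE F]
    exact card_dvd_of_le fun x hx => mem_centralizer_singleton_iff.2 (S_cent F x hx)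
  rw [h1, h2] at h3
  have e : (9196830720 : ℕ) = 2 ^ 15 * 280665 := by norm_num
  rw [e, ← mul_assoc, show (2 : ℕ) ^ 36 = 2 ^ 21 * 2 ^ 15 by norm_num] at h3
  have h4 : 2 ^ 21 * 2 ^ 15 ∣ Nat.card ↥(RE K) * 2 ^ 15 := by
    refine (Nat.Coprime.dvd_of_dvd_mul_right (n := 280665) ?_ h3)
    exact Nat.Coprime.mul_left (Nat.Coprime.pow_left 21 (by decide)) (Nat.Coprime.pow_left 15 (by decide))
  exact Nat.dvd_of_mul_dvd_mul_right (by norm_num) h4

/-- **The bound.** -/
theorem degree {A : Type v} [Group A] [Finite A] {π : A →* ↥(twistedE6 K 2)} (hπ : Function.Surjective π)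
    (hk : π.ker ≤ center A) {E : Type w} [Field E] (hE : (2 : E) ≠ 0) {ι : Type*} [Fintype ι]
    [DecidableEq ι] (ρ : A →* Matrix.GeneralLinearGroup ι E) (hρ : Function.Injective ρ) : 1024 ≤ Fintype.card ι := by
  have := finite_E (K := K)
  have hL := SheetA.large F
  have hcard := dvd_card_RE F
  have hz : Nat.card ↥(zpowers (r0 F)) = 2 := by
    rw [Nat.card_zpowers]
    exact orderOf_eq_prime (by rw [pow_two]; exact hL.z_sq) hL.z_ne
  have hzQ : zpowers (r0 F) ≤ RE K := zpowers_le.2 hL.z_mem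
  have h1 : 2 * (zpowers (r0 F)).relIndex (RE K) = Nat.card ↥(RE K) := by
    have h5 := relIndex_mul_relIndex ⊥ (zpowers (r0 F)) (RE K) bot_le hzQ
    rwa [relIndex_bot_left, relIndex_bot_left, hz] at h5
  have h3 := RepLarge.card_le hL (SheetA.irr F) (SheetA.perf F) (by
    by_contra hcon
    push Not at hcon
    have h6 : RE K ≤ zpowers (r0 F) := by
      intro x hx
      by_cases hx1 : x = 1
      · rw [hx1]; exact one_mem _
      · rw [hcon x hx hx1]; exact mem_zpowers _
    have h7 := card_dvd_of_le h6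
    rw [hz] at h7
    have h8 := hcard.trans h7
    exact absurd (Nat.le_of_dvd (by norm_num) h8) (by norm_num)) hπ hk ((S_two F).to_le (R_le F)) hE ρ hρ
  by_contra hlt
  have h9 : Fintype.card ι ≤ 1023 := by omega
  have h10 : Fintype.card ι ^ 2 ≤ 1023 ^ 2 := Nat.pow_le_pow_left h9 2
  have h11 := Nat.le_of_dvd Nat.card_pos hcard
  omega

end Cfsg.Agent.H318.RepTwE
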